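import Groth.Agent.ShStab.K847.HilbBasic
import Groth.Agent.Pic13.K243.LinForms
import Groth.Agent.Variety.K426.LinProj
import Groth.Agent.Fga.HodgeSec
import Groth.Agent.VarietyB.EulerBinom
import Groth.Agent.AbVar.K526.Cut
import Groth.Agent.S1642
import Groth.Agent.Ega3B.ProjFrame
import Groth.Agent.VarietyA.AmpleField
import Groth.Agent.Sga67.SerreVB
import Groth.Agent.VarietyB.TwistQCoh

/-!
# The hat-slope of quotients of a regular sheaf on projective space

`k` infinite, `F` coherent on `P^N_k` with Hilbert polynomial `Q` (`χ(F(m)) = Q(m)` for all integers `m`).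
* `exists_section`: a linear form generating `O(1)` at finitely many given points;
* `exists_cut`: for coherent `E`, `F` there is `s : O ⟶ O(1)` injective on `E` and `F`, meeting properly the components
  of their supports;
* `bound`: `E` `ρ`-regular with support of dimension at most `e + 1`, `E ⟶ F` epi, `F` coherent with Hilbert
  polynomial `Q`: `(1 - ρ + e/2) (e+1)! q_(e+1) ≤ e! q_e`.
-/

set_option autoImplicit false
universe u
open CategoryTheory CategoryTheory.Limits AlgebraicGeometry TopologicalSpace Polynomial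

namespace K169.HatSlope

open Groth.Agent Groth.Agent.Fdesc.LocGen Groth.Agent.Fga.RegSec Groth.Agent.VarietyB.EulerBinom
open K847.HilbBasic

section Poly

theorem coeff_comp_sub₂ {P : ℚ[X]} {e : ℕ} (hP : P.natDegree ≤ e + 2) :
    (P.comp (X + C 1) - P).coeff e = (e + 1) * P.coeff (e + 1) + (e + 1) * (e + 2) / 2 * P.coeff (e + 2) := by
  have h0 : P.comp (X + C 1) = taylor 1 P := (taylor_apply 1 P).symm
  rw [h0, coeff_sub, taylor_coeff, eval_eq_sum_range' (n := 3)]
  · rw [Finset.sum_range_succ, Finset.sum_range_succ, Finset.sum_range_one, hasseDeriv_coeff, hasseDeriv_coeff,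
      hasseDeriv_coeff]
    have h1 : ((2 + e).choose e : ℚ) = (e + 1) * (e + 2) / 2 := by
      have h2 : (2 + e).choose e = (e + 2).choose 2 := by
        rw [add_comm 2 e, ← Nat.choose_symm_add, Nat.add_comm]
      rw [h2, Nat.cast_choose_two]
      push_cast
      ring
    rw [h1]
    simp only [zero_add, Nat.choose_self, Nat.cast_one, one_mul, pow_zero, mul_one, pow_one, one_pow]
    rw [add_comm 1 e, Nat.choose_succ_self_right, add_comm 2 e]
    push_cast
    ring
  · have := natDegree_hasseDeriv_le P e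
    omega

end Poly

variable (k : Type u) [Field k] (N : ℕ)

/-- `χ(F(m)) = Q(m)` for all integers `m`. -/
def IsHP (F : (CohB1.ProjSpace N k).Modules) (Q : ℚ[X]) : Prop :=
  ∀ m : ℤ, (Curv2.euler k (CohB1.ProjSpace N k) (CohB1.tensorMod F (Twist.twistProjSpace N k m)) : ℚ) =
    Q.eval (m : ℚ)

theorem isHilbPoly_of_isHP {F : (CohB1.ProjSpace N k).Modules} {Q : ℚ[X]} (h : IsHP k N F Q) :
    ShStab.IsHilbPoly k (CohB1.ProjSpace N k) (Twist.twistProjSpace N k 1) F Q := by
  intro m
  have h1 := h m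
  rw [Int.cast_natCast] at h1
  rw [← h1]
  obtain ⟨e⟩ := Ega3B.ProjFrame.nonempty_twistProjSpace_iso N k m
  rw [euler_congr k (Ega2.Tens.mapTIso (Iso.refl F) e)]
  rfl

theorem isAmple_O1 : CohB1.IsAmple (Twist.twistProjSpace N k 1) := VarietyA.AmpleField.isAmple_twistProjSpace N k

theorem isInv (a : ℤ) : PicF.IsInvertible (Twist.twistProjSpace N k a) :=
  Groth.Agent.VarietyB.TwistQCoh.isInvertible_twistProjSpace N k a

/-! ### Linear sections -/

variable {k N}

/-- A linear form generating `O(1)` at finitely many given points. -/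
theorem exists_section [Infinite k] (S : Set (CohB1.ProjSpace N k)) (hS : S.Finite) :
    ∃ (s : Coh.structureModule (CohB1.ProjSpace N k) ⟶ Twist.twistProjSpace N k 1),
      S ⊆ CohB1.genLocus _ s ∧ IsAffineOpen (CohB1.genLocus _ s) := by
  obtain ⟨l, hl, hS'⟩ := K426.LinProj.exists_linear_notMem S hS
  let a : CohB1.polyGrading N k 1 := ⟨l, (MvPolynomial.mem_homogeneousSubmodule _ _).mpr hl⟩
  refine ⟨homOf (K243.LinForms.gs k N a), ?_, ?_⟩
  · rw [K243.LinForms.genLocus_gs]
    intro x hx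
    exact hS' x hx
  · rw [K243.LinForms.genLocus_gs]
    exact Proj.isAffineOpen_basicOpen (CohB1.polyGrading N k) l a.2 one_pos

/-- The section cuts all components of the support. -/
theorem exists_cut [Infinite k] (E F : (CohB1.ProjSpace N k).Modules) (hE : Coh.IsCoh E) (hF : Coh.IsCoh F) :
    ∃ (s : Coh.structureModule (CohB1.ProjSpace N k) ⟶ Twist.twistProjSpace N k 1),
      Mono (mulS s E) ∧ Mono (mulS s F) ∧
      ∀ r : ℕ, topologicalKrullDim (CohB1.support E) ≤ ((r + 1 : ℕ) : WithBot ℕ∞) →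
        topologicalKrullDim (CohB1.support (cokernel (mulS s E))) ≤ r := by
  have hN := Fga.HypSec.isNoetherian k (CohB1.ProjSpace N k)
  set T : Set (CohB1.ProjSpace N k) := CohB1.support E with hTdef
  have hT : IsClosed T := S0020.result _ E hE.2
  have hTn : NoetherianSpace T := inferInstance
  have hcomp : (irreducibleComponents T).Finite := NoetherianSpace.finite_irreducibleComponents
  have hfc : Finite (irreducibleComponents T) := hcomp
  have hch : ∀ Z : irreducibleComponents T, ∃ z : T, z ∈ Z.1 := fun Z => Z.2.1.nonempty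
  choose z hz using hch
  obtain ⟨s, hs, haff⟩ := exists_section (k := k) (N := N)
    ((AssSch.Ass E ∪ AssSch.Ass F) ∪ Set.range fun Z => (z Z : CohB1.ProjSpace N k))
    (((Fdesc.SubFilt.finite_ass hE).union (Fdesc.SubFilt.finite_ass hF)).union (Set.finite_range _))
  have hL : PicF.IsInvertible (Twist.twistProjSpace N k 1) := isInv k N 1
  have hNE : Coh.IsCoh (CohB1.tensorMod (Twist.twistProjSpace N k 1) E) :=
    Sga67.CohBasic.isCoh_of_iso (Ega2.Tens.swap E _) (Fga.TwistCoh.isCoh_tensor hE hL)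
  have hNF : Coh.IsCoh (CohB1.tensorMod (Twist.twistProjSpace N k 1) F) :=
    Sga67.CohBasic.isCoh_of_iso (Ega2.Tens.swap F _) (Fga.TwistCoh.isCoh_tensor hF hL)
  refine ⟨s, mulS_mono s E hE (Sga67.CohBasic.isCoh_kernel _ hE hNE.1).1 (fun x hx => hs (Or.inl (Or.inl hx))),
    mulS_mono s F hF (Sga67.CohBasic.isCoh_kernel _ hF hNF.1).1 (fun x hx => hs (Or.inl (Or.inr hx))), ?_⟩
  intro r hr
  rw [support_cokernel_mulS s E hL hE.2]
  by_cases hr' : topologicalKrullDim T = ((r + 1 : ℕ) : WithBot ℕ∞)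
  · refine (Fga.DimCut.dim_cut k _ T hT r hr' (CohB1.genLocus _ s) haff ?_ ?_).le
    · intro x hx
      obtain ⟨U, hxU, e, a, -, -, h, -⟩ := exists_gen_of_not_mem s hL hx
      exact ⟨U, hxU, a, h⟩
    · intro Z hZ'
      exact ⟨z ⟨Z, hZ'⟩, hz ⟨Z, hZ'⟩, hs (Or.inr ⟨⟨Z, hZ'⟩, rfl⟩)⟩
  · have h1 : topologicalKrullDim T < ((r + 1 : ℕ) : WithBot ℕ∞) := lt_of_le_of_ne hr hr'
    have h2 : topologicalKrullDim (T \ CohB1.genLocus _ s : Set (CohB1.ProjSpace N k)) ≤ topologicalKrullDim T :=
      (Topology.IsEmbedding.inclusion Set.sdiff_subset).isInducing.topologicalKrullDim_le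
    refine h2.trans ?_
    revert h1
    generalize topologicalKrullDim T = a
    intro h1
    induction a with
    | bot => exact bot_le
    | coe a =>
      induction a with
      | top => exact absurd h1 (by simp)
      | coe a =>
        have h3 : a < r + 1 := by exact_mod_cast h1
        exact_mod_cast Nat.lt_succ_iff.mp h3

/-! ### The cut sequence -/

/-- `F ⟶ O(1) ⊗ F ⟶ C`. -/
noncomputable abbrev cutS (s : Coh.structureModule (CohB1.ProjSpace N k) ⟶ Twist.twistProjSpace N k 1)
    (F : (CohB1.ProjSpace N k).Modules) : ShortComplex (CohB1.ProjSpace N k).Modules :=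
  ShortComplex.mk (mulS s F) (cokernel.π (mulS s F)) (cokernel.condition _)

theorem cutS_shortExact (s : Coh.structureModule (CohB1.ProjSpace N k) ⟶ Twist.twistProjSpace N k 1)
    (F : (CohB1.ProjSpace N k).Modules) (h : Mono (mulS s F)) : (cutS s F).ShortExact :=
  { exact := ShortComplex.exact_cokernel _
    mono_f := h
    epi_g := inferInstanceAs (Epi (cokernel.π (mulS s F))) }

theorem isCoh_mid {F : (CohB1.ProjSpace N k).Modules} (hF : Coh.IsCoh F) :
    Coh.IsCoh (CohB1.tensorMod (Twist.twistProjSpace N k 1) F) :=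
  Sga67.CohBasic.isCoh_of_iso (Ega2.Tens.swap F _) (Fga.TwistCoh.isCoh_tensor hF (isInv k N 1))

theorem isCoh_cut (s : Coh.structureModule (CohB1.ProjSpace N k) ⟶ Twist.twistProjSpace N k 1)
    {F : (CohB1.ProjSpace N k).Modules} (hF : Coh.IsCoh F) : Coh.IsCoh (cokernel (mulS s F)) :=
  Sga67.CohBasic.isCoh_cokernel _ hF.1 (isCoh_mid hF)

theorem nonempty_shift (F : (CohB1.ProjSpace N k).Modules) (m : ℤ) :
    Nonempty (CohB1.tensorMod (CohB1.tensorMod (Twist.twistProjSpace N k 1) F) (Twist.twistProjSpace N k m) ≅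
      CohB1.tensorMod F (Twist.twistProjSpace N k (m + 1))) := by
  obtain ⟨e⟩ := Sga67.SerreVB.nonempty_tw_tw N k 1 m F
  rw [add_comm 1 m] at e
  exact ⟨(DCoh.tensorRightMod (Twist.twistProjSpace N k m)).mapIso (Ega2.Tens.swap _ _) ≪≫ e⟩

theorem isMRegular_cut (s : Coh.structureModule (CohB1.ProjSpace N k) ⟶ Twist.twistProjSpace N k 1)
    {F : (CohB1.ProjSpace N k).Modules} (hF : Coh.IsCoh F) (h : Mono (mulS s F)) {ρ : ℤ}
    (hρ : Curv2.IsMRegular k N F ρ) : Curv2.IsMRegular k N (cokernel (mulS s F)) (ρ - 1) := by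
  intro i hi _
  have hS := shortExact_twist k N (cutS_shortExact s F h) (ρ - 1 - i)
  refine Fga.HShift.subsingleton₃ hS i ?_ ?_
  · obtain ⟨e⟩ := nonempty_shift F (ρ - 1 - i)
    rw [show ρ - 1 - (i : ℤ) + 1 = ρ - i by ring] at e
    exact Fga.HShift.subsingleton_of_iso e.symm i (S1642.subsingleton_of_isMRegular hF.1 hρ i hi)
  · have h1 := S1642.subsingleton_of_isMRegular hF.1 hρ (i + 1) (by omega)
    rw [show ρ - ((i + 1 : ℕ) : ℤ) = ρ - 1 - i by push_cast; ring] at h1
    exact h1

theorem isHP_cut (s : Coh.structureModule (CohB1.ProjSpace N k) ⟶ Twist.twistProjSpace N k 1)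
    {F : (CohB1.ProjSpace N k).Modules} (hF : Coh.IsCoh F) (h : Mono (mulS s F)) {Q : ℚ[X]}
    (hQ : IsHP k N F Q) : IsHP k N (cokernel (mulS s F)) (Q.comp (X + C 1) - Q) := by
  intro m
  have h1 := euler_obj_add k N (cutS_shortExact s F h) hF (isCoh_mid hF) (isCoh_cut s hF) m
  obtain ⟨e⟩ := nonempty_shift F m
  have h2 := euler_iso k N e
  have h3 : Curv2.euler k (CohB1.ProjSpace N k) (CohB1.tensorMod F (Twist.twistProjSpace N k (m + 1))) =
      Curv2.euler k (CohB1.ProjSpace N k) (CohB1.tensorMod F (Twist.twistProjSpace N k m)) +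
      Curv2.euler k (CohB1.ProjSpace N k) (CohB1.tensorMod (cokernel (mulS s F)) (Twist.twistProjSpace N k m)) :=
    h2.symm.trans h1
  have h4 := hQ m
  have h5 := hQ (m + 1)
  have h3' : (Curv2.euler k (CohB1.ProjSpace N k) (CohB1.tensorMod F (Twist.twistProjSpace N k (m + 1))) : ℚ) =
      (Curv2.euler k (CohB1.ProjSpace N k) (CohB1.tensorMod F (Twist.twistProjSpace N k m)) : ℚ) +
      (Curv2.euler k (CohB1.ProjSpace N k) (CohB1.tensorMod (cokernel (mulS s F)) (Twist.twistProjSpace N k m)) : ℚ) := by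
    exact_mod_cast h3
  rw [eval_sub, eval_comp, eval_add, eval_X, eval_C, ← h4]
  rw [show ((m : ℚ) + 1) = ((m + 1 : ℤ) : ℚ) by push_cast; ring, ← h5, h3']
  ring

/-- A map of modules induces a map of the cuts. -/
theorem exists_epi_cut (s : Coh.structureModule (CohB1.ProjSpace N k) ⟶ Twist.twistProjSpace N k 1)
    {E F : (CohB1.ProjSpace N k).Modules} (q : E ⟶ F) (hq : Epi q) :
    ∃ q' : cokernel (mulS s E) ⟶ cokernel (mulS s F), Epi q' := by
  have hnat : mulS s E ≫ (DCoh.tensorBi.obj (Twist.twistProjSpace N k 1)).map q = q ≫ mulS s F :=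
    K526.Cut.mulS_nat s q
  have hepi : Epi ((DCoh.tensorBi.obj (Twist.twistProjSpace N k 1)).map q) := inferInstance
  refine ⟨cokernel.map _ _ q ((DCoh.tensorBi.obj (Twist.twistProjSpace N k 1)).map q) hnat, ?_⟩
  have h1 : cokernel.π (mulS s E) ≫ cokernel.map _ _ q ((DCoh.tensorBi.obj (Twist.twistProjSpace N k 1)).map q) hnat =
      (DCoh.tensorBi.obj (Twist.twistProjSpace N k 1)).map q ≫ cokernel.π (mulS s F) := cokernel.π_desc _ _ _
  have h2 : Epi ((DCoh.tensorBi.obj (Twist.twistProjSpace N k 1)).map q ≫ cokernel.π (mulS s F)) :=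
    epi_comp' hepi (inferInstanceAs (Epi (cokernel.π (mulS s F))))
  exact @epi_of_epi_fac _ _ _ _ _ _ _ _ h2 h1

/-! ### The bound -/

theorem dim_twist_le (F : (CohB1.ProjSpace N k).Modules) (m : ℤ) :
    topologicalKrullDim (CohB1.support (CohB1.tensorMod F (Twist.twistProjSpace N k m))) ≤
      topologicalKrullDim (CohB1.support F) :=
  (Topology.IsEmbedding.inclusion (Fga.TwistCoh.support_tensor_subset (isInv k N m))).isInducing.topologicalKrullDim_le

theorem dim_support_le_of_mono {A B : (CohB1.ProjSpace N k).Modules} (i : A ⟶ B) (h : Mono i) :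
    topologicalKrullDim (CohB1.support A) ≤ topologicalKrullDim (CohB1.support B) :=
  (Topology.IsEmbedding.inclusion (CohqB.DevSupport.support_subset_of_mono i)).isInducing.topologicalKrullDim_le

theorem dim_support_le_of_epi {A B : (CohB1.ProjSpace N k).Modules} (p : A ⟶ B) (h : Epi p) :
    topologicalKrullDim (CohB1.support B) ≤ topologicalKrullDim (CohB1.support A) :=
  (Topology.IsEmbedding.inclusion (CohqB.DevSupport.support_subset_of_epi p)).isInducing.topologicalKrullDim_le

/-- Dimension one: `Q(ρ - 1) = h⁰(F(ρ - 1)) ≥ 0`. -/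
theorem base {ρ : ℤ} {E F : (CohB1.ProjSpace N k).Modules} (q : E ⟶ F) (hq : Epi q) (hE : Coh.IsCoh E)
    (hF : Coh.IsCoh F) (hρ : Curv2.IsMRegular k N E ρ)
    (hdim : topologicalKrullDim (CohB1.support E) ≤ ((1 : ℕ) : WithBot ℕ∞)) :
    0 ≤ Curv2.euler k (CohB1.ProjSpace N k) (CohB1.tensorMod F (Twist.twistProjSpace N k (ρ - 1))) := by
  have hN := Fga.HypSec.isNoetherian k (CohB1.ProjSpace N k)
  have hK : Coh.IsCoh (kernel q) := Sga67.CohBasic.isCoh_kernel q hE hF.1
  have hS : (ShortComplex.mk (kernel.ι q) q (kernel.condition q)).ShortExact :=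
    { exact := ShortComplex.exact_kernel q
      mono_f := inferInstance
      epi_g := hq }
  have hS' := shortExact_twist k N hS (ρ - 1)
  have hT : ∀ {G : (CohB1.ProjSpace N k).Modules}, Coh.IsCoh G →
      topologicalKrullDim (CohB1.support G) ≤ ((1 : ℕ) : WithBot ℕ∞) → ∀ i : ℕ, 2 ≤ i →
      Subsingleton (Coh.HH (CohB1.ProjSpace N k) (CohB1.tensorMod G (Twist.twistProjSpace N k (ρ - 1))) i) := by
    intro G hG hd i hi
    exact Fga.HodgeSec.subsingleton_HH_of_support k (isCoh_tensor_twist k N hG _) 1 ((dim_twist_le G _).trans hd) i hi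
  have hdK : topologicalKrullDim (CohB1.support (kernel q)) ≤ ((1 : ℕ) : WithBot ℕ∞) :=
    (dim_support_le_of_mono (kernel.ι q) inferInstance).trans hdim
  have hdF : topologicalKrullDim (CohB1.support F) ≤ ((1 : ℕ) : WithBot ℕ∞) :=
    (dim_support_le_of_epi q hq).trans hdim
  have h1 : Subsingleton (Coh.HH (CohB1.ProjSpace N k) (CohB1.tensorMod F (Twist.twistProjSpace N k (ρ - 1))) 1) := by
    refine Fga.HShift.subsingleton₃ hS' 1 ?_ (hT hK hdK 2 le_rfl)
    have h2 := S1642.subsingleton_of_isMRegular hE.1 hρ 1 le_rfl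
    rw [Nat.cast_one] at h2
    exact h2
  rw [VarietyA.EulerAdd.euler_eq_sum k _ 1 (fun i hi => ?_)]
  · rw [Finset.sum_range_one, pow_zero, one_mul]
    positivity
  · rcases hi.lt_or_eq with h | h
    · exact hT hF hdF i h
    · rw [← h]
      exact h1

/-- The bound for quotients of a `ρ`-regular module with support of dimension at most `e + 1`. -/
theorem bound [Infinite k] : ∀ (e : ℕ) (ρ : ℤ) (E F : (CohB1.ProjSpace N k).Modules) (q : E ⟶ F), Epi q →
    Coh.IsCoh E → Coh.IsCoh F → Curv2.IsMRegular k N E ρ →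
    topologicalKrullDim (CohB1.support E) ≤ ((e + 1 : ℕ) : WithBot ℕ∞) → ∀ Q : ℚ[X], IsHP k N F Q →
    (1 - (ρ : ℚ) + e / 2) * (((e + 1).factorial : ℚ) * Q.coeff (e + 1)) ≤ (e.factorial : ℚ) * Q.coeff e := by
  intro e
  induction e with
  | zero =>
    intro ρ E F q hq hE hF hρ hdim Q hQ
    have hdF := (dim_support_le_of_epi q hq).trans hdim
    have hdeg : Q.natDegree ≤ 1 := natDegree_le k (isInv k N 1) hF hdF (isHilbPoly_of_isHP k N hQ)
    have h1 := base q hq hE hF hρ hdim
    have h2 := hQ (ρ - 1)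
    rw [eval_eq_sum_range' (n := 2) (by omega), Finset.sum_range_succ, Finset.sum_range_one, pow_zero, mul_one,
      pow_one] at h2
    have h3 : (0 : ℚ) ≤ Q.coeff 0 + Q.coeff 1 * ((ρ - 1 : ℤ) : ℚ) := by
      rw [← h2]
      exact_mod_cast h1
    push_cast at h3
    simp only [Nat.factorial, Nat.cast_zero, zero_div, add_zero, Nat.cast_one, one_mul, zero_add, mul_one]
    linarith
  | succ e ih =>
    intro ρ E F q hq hE hF hρ hdim Q hQ
    obtain ⟨s, h1, h2, h3⟩ := exists_cut E F hE hF
    obtain ⟨q', hq'⟩ := exists_epi_cut s q hq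
    have hdF := (dim_support_le_of_epi q hq).trans hdim
    have hdeg : Q.natDegree ≤ e + 2 := natDegree_le k (isInv k N 1) hF hdF (isHilbPoly_of_isHP k N hQ)
    have h4 := ih (ρ - 1) _ _ q' hq' (isCoh_cut s hE) (isCoh_cut s hF) (isMRegular_cut s hE h1 hρ)
      (h3 (e + 1) hdim) _ (isHP_cut s hF h2 hQ)
    rw [coeff_comp_sub₂ hdeg] at h4
    have h5 := coeff_comp_sub (P := Q) (r := e + 1) hdeg 1
    rw [h5] at h4
    have f1 : ((e + 1).factorial : ℚ) = (e + 1) * (e.factorial : ℚ) := by
      rw [Nat.factorial_succ]; push_cast; ring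
    have f2 : ((e + 2).factorial : ℚ) = (e + 2) * ((e + 1) * (e.factorial : ℚ)) := by
      rw [Nat.factorial_succ, Nat.factorial_succ]; push_cast; ring
    change (1 - (ρ : ℚ) + ((e + 1 : ℕ) : ℚ) / 2) * (((e + 2).factorial : ℚ) * Q.coeff (e + 2)) ≤
      ((e + 1).factorial : ℚ) * Q.coeff (e + 1)
    rw [f1] at h4 ⊢
    rw [f2]
    push_cast at h4 ⊢
    nlinarith [h4]

end K169.HatSlope
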